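import Groth.Agent.KFlatLib.Scheme.Adjoint
import Groth.Agent.KFlatLib.Scheme.ProjLocFree
import Groth.Agent.KFlatLib.Scheme.FlatDescent
import Groth.Agent.KFlatLib.Scheme.TensorAssoc
import Groth.Agent.KFlatLib.Scheme.Flatness
import Groth.Agent.KFlatLib.Perfect.Amplitude
import Groth.Agent.Lib.InvEnd
import Groth.Agent.H23.PicInv
import Groth.Agent.InvX.Tensor
import Groth.Agent.H23.PicMul
import Groth.Agent.PicClLib.Basic

/-!
Calculus of the derived functors of pullback along flat morphisms, tensoring with invertible modules and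
direct image.
-/

set_option autoImplicit false
set_option linter.style.haveILetI false
set_option linter.unusedSectionVars false

universe u

open CategoryTheory CategoryTheory.Limits AlgebraicGeometry

attribute [local instance] HasDerivedCategory.standard

namespace Groth.Agent.FMAux

open KFlatLib

variable {X Y Z : Scheme.{u}}

theorem isFlat_of_isInvertible {M : X.Modules} (hM : PicF.IsInvertible M) : FlatMod.IsFlat M :=
  isFlat_of_isFinLocFree fun x =>
    let ⟨U, hx, h⟩ := InvEnd.isFinLocFreeOfRank_one hM x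
    ⟨U, 1, hx, h⟩

theorem preservesHomology_tensorRightMod {M : X.Modules} (hM : FlatMod.IsFlat M) :
    (DCoh.tensorRightMod M).PreservesHomology :=
  ((Functor.exact_tfae (DCoh.tensorRightMod M)).out 0 2).1 fun S hS => flatObj_of_isFlat hM S hS

/-- A natural map which is invertible on resolutions is invertible for functors preserving quasi-isomorphisms. -/
theorem isIso_app_of_resolution {W : Scheme.{u}} (G : DCoh.D X ⥤ DCoh.D W) (F : X.Modules ⥤ W.Modules) [F.Additive]
    [F.PreservesHomology]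
    (α : DerivedCategory.Q ⋙ G ⟶ F.mapHomologicalComplex (ComplexShape.up ℤ) ⋙ DerivedCategory.Q)
    (h : ∀ K, DCoh.IsKFlat K → IsIso (α.app K)) (K : CochainComplex X.Modules ℤ) : IsIso (α.app K) := by
  let s : (kRes X).obj K ⟶ K := (flatCover X).ψ.app K
  haveI : QuasiIso s := (flatCover X).quasiIso_ψ K
  haveI : QuasiIso ((F.mapHomologicalComplex (ComplexShape.up ℤ)).map s) := inferInstance
  haveI h1 : IsIso (DerivedCategory.Q.map s) := inferInstance
  haveI h2 : IsIso (α.app ((kRes X).obj K)) := h _ (isKFlat_kRes K)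
  haveI h3 : IsIso ((DerivedCategory.Q ⋙ G).map s) := by
    show IsIso (G.map (DerivedCategory.Q.map s))
    infer_instance
  haveI h4 : IsIso ((F.mapHomologicalComplex (ComplexShape.up ℤ) ⋙ DerivedCategory.Q).map s) := by
    show IsIso (DerivedCategory.Q.map ((F.mapHomologicalComplex (ComplexShape.up ℤ)).map s))
    infer_instance
  haveI h5 : IsIso ((DerivedCategory.Q ⋙ G).map s ≫ α.app K) := by
    rw [α.naturality s]
    exact IsIso.comp_isIso' h2 h4
  exact IsIso.of_isIso_comp_left ((DerivedCategory.Q ⋙ G).map s) (α.app K)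

/-- `Lf^*` of a flat morphism is pullback of complexes. -/
noncomputable def lpullFlatIso (f : X ⟶ Y) [Flat f] [DCoh.HasLpull f] :
    DerivedCategory.Q ⋙ DCoh.Lpull f ≅ pullCx f ⋙ DerivedCategory.Q :=
  haveI := preservesHomology_pullback f
  haveI : ∀ K, IsIso ((lpullComparison f).app K) := fun K =>
    isIso_app_of_resolution _ (Scheme.Modules.pullback f) (lpullComparison f)
      (fun _ hL => isIso_lpullComparison f hL) K
  haveI := NatIso.isIso_of_isIso_app (lpullComparison f)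
  asIso (lpullComparison f)

/-- Tensoring with a flat module is tensoring of complexes. -/
noncomputable def ltensorFlatIso (M : X.Modules) (hM : FlatMod.IsFlat M) [DCoh.HasLTensorMod M] :
    DerivedCategory.Q ⋙ DCoh.LTensorMod M ≅ tensorModCx M ⋙ DerivedCategory.Q :=
  haveI := preservesHomology_tensorRightMod hM
  haveI : ∀ K, IsIso ((ltensorModComparison M).app K) := fun K =>
    isIso_app_of_resolution _ (DCoh.tensorRightMod M) (ltensorModComparison M)
      (fun _ hL => isIso_ltensorModComparison M hL) K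
  haveI := NatIso.isIso_of_isIso_app (ltensorModComparison M)
  asIso (ltensorModComparison M)

/-- `(K ⊗ M) ⊗ N ≅ K ⊗ (M ⊗ N)`. -/
noncomputable def tensorRightAssocIso (M N : X.Modules) :
    DCoh.tensorRightMod M ⋙ DCoh.tensorRightMod N ≅ DCoh.tensorRightMod (CohB1.tensorMod M N) :=
  NatIso.ofComponents (fun K => (((tensorAssocSch X).app K).app M).app N)
    fun φ => congrArg (fun t => (t.app M).app N) ((tensorAssocSch X).hom.naturality φ)

/-- Functors of complexes of a composite. -/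
noncomputable def mapCxCompIso {V : Scheme.{u}} (F : X.Modules ⥤ Y.Modules) (G : Y.Modules ⥤ V.Modules)
    [F.Additive] [G.Additive] :
    F.mapHomologicalComplex (ComplexShape.up ℤ) ⋙ G.mapHomologicalComplex (ComplexShape.up ℤ) ≅
      (F ⋙ G).mapHomologicalComplex (ComplexShape.up ℤ) :=
  NatIso.ofComponents (fun _ => HomologicalComplex.Hom.isoOfComponents (fun _ => Iso.refl _)
    (fun _ _ _ => (Category.id_comp _).trans (Category.comp_id _).symm))
    (fun _ => HomologicalComplex.hom_ext _ _ fun _ => (Category.comp_id _).trans (Category.id_comp _).symm)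

theorem nonempty_ltensor_comp {M N : X.Modules} (hM : PicF.IsInvertible M) (hN : PicF.IsInvertible N)
    [DCoh.HasLTensorMod M] [DCoh.HasLTensorMod N] [DCoh.HasLTensorMod (CohB1.tensorMod M N)] :
    Nonempty (DCoh.LTensorMod M ⋙ DCoh.LTensorMod N ≅ DCoh.LTensorMod (CohB1.tensorMod M N)) := by
  refine ⟨Localization.liftNatIso DerivedCategory.Q (qisX X)
    (DerivedCategory.Q ⋙ DCoh.LTensorMod M ⋙ DCoh.LTensorMod N)
    (DerivedCategory.Q ⋙ DCoh.LTensorMod (CohB1.tensorMod M N)) _ _ ?_⟩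
  exact (Functor.associator _ _ _).symm ≪≫
    Functor.isoWhiskerRight (ltensorFlatIso M (isFlat_of_isInvertible hM)) _ ≪≫ Functor.associator _ _ _ ≪≫
    Functor.isoWhiskerLeft _ (ltensorFlatIso N (isFlat_of_isInvertible hN)) ≪≫ (Functor.associator _ _ _).symm ≪≫
    Functor.isoWhiskerRight (mapCxCompIso (DCoh.tensorRightMod M) (DCoh.tensorRightMod N) ≪≫
      NatIso.mapHomologicalComplex (tensorRightAssocIso M N) _) _ ≪≫
    (ltensorFlatIso _ (isFlat_of_isInvertible (H23.PicMul.isInvertible_tensor hM hN))).symm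

theorem nonempty_ltensor_congr {M N : X.Modules} (e : M ≅ N) (hM : PicF.IsInvertible M)
    [DCoh.HasLTensorMod M] [DCoh.HasLTensorMod N] :
    Nonempty (DCoh.LTensorMod M ≅ DCoh.LTensorMod N) := by
  refine ⟨Localization.liftNatIso DerivedCategory.Q (qisX X)
    (DerivedCategory.Q ⋙ DCoh.LTensorMod M) (DerivedCategory.Q ⋙ DCoh.LTensorMod N) _ _ ?_⟩
  exact ltensorFlatIso M (isFlat_of_isInvertible hM) ≪≫
    Functor.isoWhiskerRight (NatIso.mapHomologicalComplex (DCoh.tensorBi.flip.mapIso e) _) _ ≪≫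
    (ltensorFlatIso N (isFlat_of_isInvertible (H23.PicMul.isInvertible_of_iso e hM))).symm

theorem nonempty_ltensor_structure [DCoh.HasLTensorMod (Coh.structureModule X)] :
    Nonempty (DCoh.LTensorMod (Coh.structureModule X) ≅ 𝟭 (DCoh.D X)) := by
  refine ⟨Localization.liftNatIso DerivedCategory.Q (qisX X)
    (DerivedCategory.Q ⋙ DCoh.LTensorMod (Coh.structureModule X)) (DerivedCategory.Q ⋙ 𝟭 _) _ _ ?_⟩
  exact ltensorFlatIso _ (isFlat_of_isInvertible InvX.isInvertible_structureModule) ≪≫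
    Functor.isoWhiskerRight (NatIso.mapHomologicalComplex (tensorStructureIso X) _ ≪≫
      Functor.mapHomologicalComplexIdIso _ _) _ ≪≫
    Functor.leftUnitor _ ≪≫ (Functor.rightUnitor _).symm

theorem nonempty_ltensor_lpull (f : X ⟶ Y) [Flat f] [DCoh.HasLpull f] {M : Y.Modules} (hM : PicF.IsInvertible M)
    [DCoh.HasLTensorMod M] [DCoh.HasLTensorMod ((Scheme.Modules.pullback f).obj M)] :
    Nonempty (DCoh.LTensorMod M ⋙ DCoh.Lpull f ≅
      DCoh.Lpull f ⋙ DCoh.LTensorMod ((Scheme.Modules.pullback f).obj M)) := by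
  refine ⟨Localization.liftNatIso DerivedCategory.Q (qisX Y)
    (DerivedCategory.Q ⋙ DCoh.LTensorMod M ⋙ DCoh.Lpull f)
    (DerivedCategory.Q ⋙ DCoh.Lpull f ⋙ DCoh.LTensorMod ((Scheme.Modules.pullback f).obj M)) _ _ ?_⟩
  exact (Functor.associator _ _ _).symm ≪≫
    Functor.isoWhiskerRight (ltensorFlatIso M (isFlat_of_isInvertible hM)) _ ≪≫ Functor.associator _ _ _ ≪≫
    Functor.isoWhiskerLeft _ (lpullFlatIso f) ≪≫ (Functor.associator _ _ _).symm ≪≫
    Functor.isoWhiskerRight (mapCxCompIso (DCoh.tensorRightMod M) (Scheme.Modules.pullback f) ≪≫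
      NatIso.mapHomologicalComplex (pullTensorRightIso f M) _ ≪≫
      (mapCxCompIso (Scheme.Modules.pullback f) (DCoh.tensorRightMod ((Scheme.Modules.pullback f).obj M))).symm) _ ≪≫
    Functor.associator _ _ _ ≪≫
    Functor.isoWhiskerLeft _
      (ltensorFlatIso _ (isFlat_of_isInvertible (PicClLib.isInvertible_pullback f hM))).symm ≪≫
    (Functor.associator _ _ _).symm ≪≫ Functor.isoWhiskerRight (lpullFlatIso f).symm _ ≪≫ Functor.associator _ _ _

variable (X) in
theorem nonempty_lpull_id [DCoh.HasLpull (𝟙 X)] : Nonempty (DCoh.Lpull (𝟙 X) ≅ 𝟭 (DCoh.D X)) := by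
  refine ⟨Localization.liftNatIso DerivedCategory.Q (qisX X)
    (DerivedCategory.Q ⋙ DCoh.Lpull (𝟙 X)) (DerivedCategory.Q ⋙ 𝟭 _) _ _ ?_⟩
  exact lpullFlatIso (𝟙 X) ≪≫
    Functor.isoWhiskerRight (NatIso.mapHomologicalComplex (Scheme.Modules.pullbackId X) _ ≪≫
      Functor.mapHomologicalComplexIdIso _ _) _ ≪≫
    Functor.leftUnitor _ ≪≫ (Functor.rightUnitor _).symm

theorem nonempty_lpull_congr {f g : X ⟶ Y} (h : f = g) [DCoh.HasLpull f] [DCoh.HasLpull g] :
    Nonempty (DCoh.Lpull f ≅ DCoh.Lpull g) := by subst h; exact ⟨Iso.refl _⟩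

theorem nonempty_rpush_congr {f g : X ⟶ Y} (h : f = g) [DCoh.HasRpush f] [DCoh.HasRpush g] :
    Nonempty (DCoh.Rpush f ≅ DCoh.Rpush g) := by subst h; exact ⟨Iso.refl _⟩

/-- `Lf^*` and `L(f⁻¹)^*` are inverse. -/
theorem nonempty_lpull_iso_inv (e : X ≅ Y) [DCoh.HasLpull e.hom] [DCoh.HasLpull e.inv] :
    Nonempty (DCoh.Lpull e.hom ⋙ DCoh.Lpull e.inv ≅ 𝟭 (DCoh.D Y)) := by
  haveI := hasLpull (e.inv ≫ e.hom)
  haveI := hasLpull (𝟙 Y)
  obtain ⟨a⟩ := nonempty_lpull_comp e.inv e.hom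
  obtain ⟨b⟩ := nonempty_lpull_congr e.inv_hom_id
  obtain ⟨c⟩ := nonempty_lpull_id Y
  exact ⟨a ≪≫ b ≪≫ c⟩

/-- Direct image along an isomorphism is pullback along its inverse. -/
theorem nonempty_rpush_iso (e : X ≅ Y) [DCoh.HasRpush e.hom] [DCoh.HasLpull e.inv] :
    Nonempty (DCoh.Rpush e.hom ≅ DCoh.Lpull e.inv) := by
  haveI := hasLpull e.hom
  obtain ⟨a⟩ := nonempty_lpull_iso_inv e
  haveI : DCoh.HasLpull e.symm.hom := hasLpull _
  haveI : DCoh.HasLpull e.symm.inv := hasLpull _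
  obtain ⟨b⟩ := nonempty_lpull_iso_inv e.symm
  let E : DCoh.D Y ≌ DCoh.D X := CategoryTheory.Equivalence.mk (DCoh.Lpull e.hom) (DCoh.Lpull e.inv) a.symm b
  obtain ⟨adj⟩ := nonempty_lpull_rpush_adj e.hom
  exact ⟨adj.rightAdjointUniq E.toAdjunction⟩

/-- Direct image commutes with isomorphisms. -/
theorem nonempty_rpush_square {X' Y' : Scheme.{u}} (e : X' ≅ X) (t : Y' ≅ Y) (q : X ⟶ Y) (q' : X' ⟶ Y')
    (h : e.hom ≫ q = q' ≫ t.hom) [DCoh.HasRpush q] [DCoh.HasRpush q'] [DCoh.HasLpull t.hom] [DCoh.HasLpull e.hom] :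
    Nonempty (DCoh.Rpush q ⋙ DCoh.Lpull t.hom ≅ DCoh.Lpull e.hom ⋙ DCoh.Rpush q') := by
  haveI := hasRpush_scheme t.inv
  haveI := hasRpush_scheme e.inv
  haveI := hasRpush_scheme (q ≫ t.inv)
  haveI := hasRpush_scheme (e.inv ≫ q')
  haveI : DCoh.HasRpush t.symm.hom := hasRpush_scheme _
  haveI : DCoh.HasRpush e.symm.hom := hasRpush_scheme _
  haveI : DCoh.HasLpull t.symm.inv := inferInstanceAs (DCoh.HasLpull t.hom)
  haveI : DCoh.HasLpull e.symm.inv := inferInstanceAs (DCoh.HasLpull e.hom)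
  obtain ⟨a⟩ := nonempty_rpush_iso t.symm
  obtain ⟨b⟩ := nonempty_rpush_iso e.symm
  obtain ⟨c⟩ := nonempty_rpush_comp q t.inv
  obtain ⟨d⟩ := nonempty_rpush_comp e.inv q'
  obtain ⟨f⟩ := nonempty_rpush_congr (show q ≫ t.inv = e.inv ≫ q' by
    rw [Iso.comp_inv_eq, Category.assoc, ← h, e.inv_hom_id_assoc])
  exact ⟨(Functor.isoWhiskerLeft _ a).symm ≪≫ c ≪≫ f ≪≫ d.symm ≪≫ Functor.isoWhiskerRight b _⟩

/-- Tensoring with an invertible module is an equivalence. -/
theorem nonempty_ltensor_inv {M N : X.Modules} (hM : PicF.IsInvertible M) (hN : PicF.IsInvertible N)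
    (e : CohB1.tensorMod M N ≅ Coh.structureModule X) [DCoh.HasLTensorMod M] [DCoh.HasLTensorMod N] :
    Nonempty (DCoh.LTensorMod M ⋙ DCoh.LTensorMod N ≅ 𝟭 (DCoh.D X)) := by
  haveI := hasLTensorMod (CohB1.tensorMod M N)
  haveI := hasLTensorMod (Coh.structureModule X)
  obtain ⟨a⟩ := nonempty_ltensor_comp hM hN
  obtain ⟨b⟩ := nonempty_ltensor_congr e (H23.PicMul.isInvertible_tensor hM hN)
  obtain ⟨c⟩ := nonempty_ltensor_structure (X := X)
  exact ⟨a ≪≫ b ≪≫ c⟩

/-- The projection formula for an invertible module, as an isomorphism of functors. -/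
theorem nonempty_projection_invertible (q : X ⟶ Y) [Flat q] [DCoh.HasRpush q] {N : Y.Modules}
    (hN : PicF.IsInvertible N) [DCoh.HasLTensorMod N] [DCoh.HasLTensorMod ((Scheme.Modules.pullback q).obj N)] :
    Nonempty (DCoh.Rpush q ⋙ DCoh.LTensorMod N ≅
      DCoh.LTensorMod ((Scheme.Modules.pullback q).obj N) ⋙ DCoh.Rpush q) := by
  haveI := hasLpull q
  obtain ⟨N', hN', e⟩ := H23.PicInv.exists_inverse hN
  obtain ⟨e'⟩ := H23.PicMul.comm N' N
  haveI := hasLTensorMod N'
  haveI := hasLTensorMod ((Scheme.Modules.pullback q).obj N')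
  obtain ⟨a⟩ := nonempty_ltensor_inv hN' hN (e' ≪≫ e.some)
  obtain ⟨b⟩ := nonempty_ltensor_inv hN hN' e.some
  let E : DCoh.D Y ≌ DCoh.D Y := CategoryTheory.Equivalence.mk (DCoh.LTensorMod N') (DCoh.LTensorMod N) a.symm b
  have hq := PicClLib.isInvertible_pullback q hN
  have hq' := PicClLib.isInvertible_pullback q hN'
  obtain ⟨p₁⟩ := H23.PicMul.pull q N' N
  obtain ⟨p₂⟩ := H23.PicMul.pull q N N'
  obtain ⟨o⟩ := PicClLib.nonempty_pullback_structureModule q
  obtain ⟨a'⟩ := nonempty_ltensor_inv hq' hq (p₁.symm ≪≫ (Scheme.Modules.pullback q).mapIso (e' ≪≫ e.some) ≪≫ o)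
  obtain ⟨b'⟩ := nonempty_ltensor_inv hq hq' (p₂.symm ≪≫ (Scheme.Modules.pullback q).mapIso e.some ≪≫ o)
  let E' : DCoh.D X ≌ DCoh.D X :=
    CategoryTheory.Equivalence.mk (DCoh.LTensorMod ((Scheme.Modules.pullback q).obj N'))
      (DCoh.LTensorMod ((Scheme.Modules.pullback q).obj N)) a'.symm b'
  obtain ⟨adj⟩ := nonempty_lpull_rpush_adj q
  obtain ⟨c⟩ := nonempty_ltensor_lpull q hN'
  exact ⟨((E.toAdjunction.comp adj).ofNatIsoLeft c).rightAdjointUniq (adj.comp E'.toAdjunction)⟩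

end Groth.Agent.FMAux
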