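import Groth.Agent.Lib.PicZeroPrim
import Groth.Agent.H23.RatExt
import Mathlib.AlgebraicGeometry.Group.Abelian

/-!
Additivity of a Poincaré class in each variable.
-/

set_option autoImplicit false
set_option linter.style.haveILetI false
set_option linter.unusedSectionVars false
set_option backward.isDefEq.respectTransparency false
set_option backward.isDefEq.respectTransparency.types false
set_option maxHeartbeats 800000

universe u

open CategoryTheory CategoryTheory.Limits MonoidalCategory CartesianMonoidalCategory MonObj GrpObj AlgebraicGeometry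

namespace Groth.Agent.FMAux

open Groth.Agent.AbDualBase Groth.Agent.PicZeroPrim
open scoped Groth.Agent.H23.PicMul

variable {k : Type u} [Field k]

theorem geometricallyConnected_of_geometricallyIntegral (B : Over (Spec (CommRingCat.of k)))
    [GeometricallyIntegral B.hom] : GeometricallyConnected B.hom :=
  ⟨fun K _ y Z g₁ g₂ h =>
    haveI := GeometricallyIrreducible.geometrically_irreducibleSpace (f := B.hom) y g₁ g₂ h
    show ConnectedSpace Z from { toNonempty := inferInstance }⟩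

variable {A At : Over (Spec (CommRingCat.of k))} [GrpObj A] [IsProper A.hom] [Smooth A.hom]
  [GeometricallyConnected A.hom] [GrpObj At] [IsProper At.hom] [Smooth At.hom] [GeometricallyConnected At.hom]
  {φ : ∀ T : Over (Spec (CommRingCat.of k)), PicF.Cl (PicF.XT A.hom T) → (T ⟶ At)}
  (hφ : AbDual.IsDualAV Scheme.fppfPrecoverage A At φ)
  {ξ : PicF.Cl (PicF.XT A.hom At)} (hξ : AbDual.IsPoincareCl A At φ ξ)
include hφ hξ

theorem rig_pull {T : Over (Spec (CommRingCat.of k))} (g : T ⟶ At) :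
    PicF.pullCl (PicF.secT A.hom η[A].left (Over.w η[A]) T) (PicF.pullCl (PicF.XTmap A.hom g) ξ) = 1 := by
  have e : PicF.secT A.hom η[A].left (Over.w η[A]) T ≫ PicF.XTmap A.hom g =
      g.left ≫ PicF.secT A.hom η[A].left (Over.w η[A]) At := by
    rw [secT_eq, secT_eq, xtMap_eq, ← Over.comp_left, ← Over.comp_left]
    congr 1
    ext <;> simp
  rw [PicClLib.pullCl_comp, e, ← PicClLib.pullCl_comp, hξ.2.2]
  exact pullCl_one' _

theorem phi_pull {T : Over (Spec (CommRingCat.of k))} (g : T ⟶ At) :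
    φ T (PicF.pullCl (PicF.XTmap A.hom g) ξ) = g := by
  rw [hφ.relPic.natural _ _ g _ hξ.1, hξ.2.1, Category.comp_id]

theorem slice_unit : PicF.pullCl (PicF.XTmap A.hom η[At]) ξ = 1 := by
  haveI : IsCommMonObj A :=
    haveI := AVDual.geometricallyIntegral_of_smooth A
    isCommMonObj_of_isProper_of_geometricallyIntegral A
  refine PicZeroPrim.eq_of_phi hφ (pz_xtMap _ hξ.1) (pz_one _) ?_ ?_
  · rw [phi_pull hφ hξ, AbDualBase.phi_one hφ, Hom.one_def, toUnit_unique (toUnit _) (𝟙 _), Category.id_comp]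
  · rw [rig_pull hφ hξ, pullCl_one']

theorem pz_sum : AbDual.IsPicZeroCl A.hom (At ⊗ At)
    (PicF.pullCl (PicF.XTmap A.hom (fst At At)) ξ * PicF.pullCl (PicF.XTmap A.hom (snd At At)) ξ) := by
  haveI := AVDual.geometricallyIntegral_of_smooth At
  haveI : GeometricallyIntegral (At ⊗ At).hom := H23.RatExt.geometricallyIntegral_prod At At
  haveI := geometricallyConnected_of_geometricallyIntegral (At ⊗ At)
  haveI : IsProper (At ⊗ At).hom := by
    show IsProper (pullback.fst At.hom At.hom ≫ At.hom)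
    infer_instance
  refine pz_of_slice (lift η[At] η[At])
    (H23.PicMul.isInvertibleCl_mul (pz_invertible (pz_xtMap _ hξ.1)) (pz_invertible (pz_xtMap _ hξ.1)))
    (n := 1) ⟨_, rfl, PicLoc.isInvertible_structureModule _⟩ ?_
  have e : ∀ (p : At ⊗ At ⟶ At), lift η[At] η[At] ≫ p = η[At] →
      PicF.pullCl (lift (𝟙 A) (toUnit A ≫ lift η[At] η[At])).left (PicF.pullCl (PicF.XTmap A.hom p) ξ) = 1 := by
    intro p hp
    have : (lift (𝟙 A) (toUnit A ≫ lift η[At] η[At])).left ≫ PicF.XTmap A.hom p =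
        (lift (𝟙 A) (toUnit A)).left ≫ PicF.XTmap A.hom η[At] := by
      rw [xtMap_eq, xtMap_eq, ← Over.comp_left, ← Over.comp_left, lift_whiskerLeft, lift_whiskerLeft,
        Category.assoc, hp]
    rw [PicClLib.pullCl_comp, this, ← PicClLib.pullCl_comp, slice_unit hφ hξ, pullCl_one']
  rw [H23.PicMul.pullCl_mul, e _ (lift_fst _ _), e _ (lift_snd _ _), _root_.one_mul, pullCl_one']

/-- Translation in the dual variable. -/
theorem pull_translate_dual (x : 𝟙_ (Over (Spec (CommRingCat.of k))) ⟶ At) :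
    PicF.pullCl (A ◁ (𝟙 At * (toUnit At ≫ x))).left ξ =
      (PicF.pullCl (fst A At).left (PicF.pullCl (lift (𝟙 A) (toUnit A ≫ x)).left ξ) :
          PicF.Cl (PicF.XT A.hom At)) * ξ := by
  haveI : IsCommMonObj A :=
    haveI := AVDual.geometricallyIntegral_of_smooth A
    isCommMonObj_of_isProper_of_geometricallyIntegral A
  haveI : IsCommMonObj At :=
    haveI := AVDual.geometricallyIntegral_of_smooth At
    isCommMonObj_of_isProper_of_geometricallyIntegral At
  let g : At ⟶ At ⊗ At := lift (toUnit At ≫ x) (𝟙 At)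
  have hsum : PicF.pullCl (PicF.XTmap A.hom g)
        (PicF.pullCl (PicF.XTmap A.hom (fst At At)) ξ * PicF.pullCl (PicF.XTmap A.hom (snd At At)) ξ) =
      PicF.pullCl (PicF.XTmap A.hom (toUnit At ≫ x)) ξ * ξ := by
    rw [H23.PicMul.pullCl_mul, PicClLib.pullCl_comp, PicClLib.pullCl_comp, xtMap_eq, xtMap_eq, xtMap_eq, xtMap_eq,
      ← Over.comp_left, ← Over.comp_left, ← whiskerLeft_comp, ← whiskerLeft_comp, lift_fst, lift_snd, whiskerLeft_id]
    exact congrArg (_ * ·) (PicClLib.pullCl_id _)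
  have hc2 := hsum ▸ pz_xtMap g (pz_sum hφ hξ)
  have h : PicF.pullCl (PicF.XTmap A.hom (𝟙 At * (toUnit At ≫ x))) ξ =
      PicF.pullCl (PicF.XTmap A.hom (toUnit At ≫ x)) ξ * ξ := by
    refine PicZeroPrim.eq_of_phi hφ (pz_xtMap _ hξ.1) hc2 ?_ ?_
    · rw [phi_pull hφ hξ, AbDualBase.phi_mul hφ (pz_xtMap _ hξ.1) hξ.1, phi_pull hφ hξ, hξ.2.1]
      exact mul_comm _ _
    · rw [H23.PicMul.pullCl_mul, rig_pull hφ hξ, rig_pull hφ hξ]
      exact ((congrArg (fun c => (1 : PicF.Cl At.left) * c) hξ.2.2).trans (_root_.one_mul _)).symm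
  rw [xtMap_eq, xtMap_eq] at h
  rw [h, PicClLib.pullCl_comp]
  congr 2
  rw [← Over.comp_left]
  congr 1
  ext <;> simp

/-- Translation in the first variable. -/
theorem pull_translate (x : 𝟙_ (Over (Spec (CommRingCat.of k))) ⟶ A) :
    PicF.pullCl ((𝟙 A * (toUnit A ≫ x)) ▷ At).left ξ =
      ξ * (PicF.pullCl (snd A At).left (PicF.pullCl (lift (toUnit At ≫ x) (𝟙 At)).left ξ) :
          PicF.Cl (PicF.XT A.hom At)) := by
  haveI : IsCommMonObj A :=
    haveI := AVDual.geometricallyIntegral_of_smooth A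
    isCommMonObj_of_isProper_of_geometricallyIntegral A
  let s : A ⊗ At ⟶ A ⊗ (A ⊗ At) := lift (fst A At) (lift (toUnit (A ⊗ At) ≫ x) (snd A At))
  have h := congrArg (PicF.pullCl s.left) (PicZeroPrim.primitive hφ hξ.1 hξ.2.2)
  have h1 : s.left ≫ PicZeroPrim.trans At = ((𝟙 A * (toUnit A ≫ x)) ▷ At).left := by
    rw [PicZeroPrim.trans, PicZeroPrim.act]
    rw [← Over.comp_left]
    congr 1
    ext
    · simp [s, MonObj.comp_mul]
    · simp [s]
  have h2 : s.left ≫ PicF.XTproj A.hom (A ⊗ At) = (snd A At).left ≫ (lift (toUnit At ≫ x) (𝟙 At)).left := by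
    show s.left ≫ (snd A (A ⊗ At)).left = _
    rw [← Over.comp_left, ← Over.comp_left]
    congr 1
    ext <;> simp [s]
  have h3 : s.left ≫ PicF.XTmap A.hom (snd A At) = 𝟙 _ := by
    rw [xtMap_eq]
    show _ = (𝟙 (A ⊗ At) : A ⊗ At ⟶ A ⊗ At).left
    rw [← Over.comp_left]
    congr 1
    ext <;> simp [s]
  rw [H23.PicMul.pullCl_mul, PicClLib.pullCl_comp, PicClLib.pullCl_comp, PicClLib.pullCl_comp, h1, h2, h3,
    ← PicClLib.pullCl_comp] at h
  rw [h, mul_comm]
  exact congrArg (· * _) (PicClLib.pullCl_id _)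

end Groth.Agent.FMAux
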