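import Groth.Agent.FMAux.Functors
import Mathlib.CategoryTheory.Monoidal.Cartesian.Grp

/-!
Translations as isomorphisms.
-/

set_option autoImplicit false
set_option linter.unusedSectionVars false

universe u v

open CategoryTheory MonoidalCategory CartesianMonoidalCategory MonObj GrpObj

namespace Groth.Agent.FMAux

variable {C : Type u} [Category.{v} C] [CartesianMonoidalCategory C] {A : C} [GrpObj A]

/-- Translation by a point. -/
def translateIso (x : 𝟙_ C ⟶ A) : A ≅ A where
  hom := 𝟙 A * (toUnit A ≫ x)
  inv := 𝟙 A * (toUnit A ≫ x⁻¹)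
  hom_inv_id := by
    rw [MonObj.comp_mul, Category.comp_id, comp_toUnit_assoc, _root_.mul_assoc, GrpObj.comp_inv, _root_.mul_inv_cancel, _root_.mul_one]
  inv_hom_id := by
    rw [MonObj.comp_mul, Category.comp_id, comp_toUnit_assoc, _root_.mul_assoc, GrpObj.comp_inv, _root_.inv_mul_cancel, _root_.mul_one]

end Groth.Agent.FMAux
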